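import Mathlib

/-!
Strictness of Fontaine–Laffaille modules by counting lengths.
-/

set_option autoImplicit false
universe u v w

namespace FL52

open Submodule

variable {R : Type u} [CommRing R]

/-- `a • M`. -/
def sm (a : R) (M : Type v) [AddCommGroup M] [Module R M] : Submodule R M :=
  LinearMap.range (LinearMap.lsmul R M a)

theorem mem_sm {a : R} {M : Type v} [AddCommGroup M] [Module R M] {x : M} :
    x ∈ sm a M ↔ ∃ y, a • y = x := Iff.rfl

theorem length_quotient_ker {σ : R →+* R} [RingHomSurjective σ] {X : Type v} [AddCommGroup X] [Module R X]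
    {M : Type w} [AddCommGroup M] [Module R M] (g : X →ₛₗ[σ] M) (hg : Function.Surjective g) :
    Module.length R (X ⧸ LinearMap.ker g) = Module.length R M := by
  have e : Set.Ici (LinearMap.ker g) ≃o Submodule R M :=
    { toFun := fun q => q.1.map g
      invFun := fun q => ⟨q.comap g, fun x hx => by simp [LinearMap.mem_ker.1 hx]⟩
      left_inv := fun q => Subtype.ext (Submodule.comap_map_eq_self q.2)
      right_inv := fun q => Submodule.map_comap_eq_of_surjective hg q
      map_rel_iff' := fun {a b} => by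
        refine ⟨fun h => ?_, fun h => Submodule.map_mono h⟩
        have h' := Submodule.comap_mono (f := g) h
        simp only [Equiv.coe_fn_mk] at h'
        rwa [Submodule.comap_map_eq_self a.2, Submodule.comap_map_eq_self b.2] at h' }
  rw [← WithBot.coe_inj, Module.coe_length, Module.coe_length]
  exact Order.krullDim_eq_of_orderIso ((Submodule.comapMkQRelIso _).trans e)

theorem comap_sm_le {σ : R →+* R} [RingHomSurjective σ]
    {X : Type v} [AddCommGroup X] [Module R X] {Y : Type v} [AddCommGroup Y] [Module R Y]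
    {M : Type w} [AddCommGroup M] [Module R M] [IsNoetherian R X] [IsArtinian R X] [IsNoetherian R Y]
    [IsArtinian R Y] [IsNoetherian R M] [IsArtinian R M]
    (e : X ≃ₗ[R] M × Y) (θ : Y →ₗ[R] X) (Φ : X →ₛₗ[σ] M) (hΦ : Function.Surjective Φ)
    (hker : LinearMap.ker Φ ≤ LinearMap.range θ) (a : R) (ha : σ a = a) {y : Y} (hy : θ y ∈ sm a X) :
    y ∈ sm a Y := by
  set T : Submodule R Y := (sm a X).comap θ with hT
  have hYT : sm a Y ≤ T := by
    rintro _ ⟨b, rfl⟩
    exact ⟨θ b, (map_smul θ a b).symm⟩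
  set W : Submodule R X := LinearMap.range θ ⊔ sm a X with hW
  -- the length of `X / a X`
  let g₀ : X →ₗ[R] (M ⧸ sm a M) × (Y ⧸ sm a Y) := ((sm a M).mkQ.prodMap (sm a Y).mkQ) ∘ₗ e.toLinearMap
  have hg₀ : LinearMap.ker g₀ = sm a X := by
    ext x
    simp only [g₀, LinearMap.mem_ker, LinearMap.comp_apply, LinearMap.prodMap_apply, Prod.mk_eq_zero,
      Submodule.mkQ_apply, Submodule.Quotient.mk_eq_zero, mem_sm, LinearEquiv.coe_coe]
    constructor
    · rintro ⟨⟨m, hm⟩, n, hn⟩
      exact ⟨e.symm (m, n), by rw [← map_smul, Prod.smul_mk, hm, hn, Prod.mk.eta, e.symm_apply_apply]⟩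
    · rintro ⟨x', rfl⟩
      exact ⟨⟨(e x').1, by simp⟩, ⟨(e x').2, by simp⟩⟩
  have h1 : Module.length R (X ⧸ sm a X) = Module.length R (M ⧸ sm a M) + Module.length R (Y ⧸ sm a Y) := by
    rw [← Module.length_prod, ← hg₀]
    refine (g₀.quotKerEquivOfSurjective ?_).length_eq
    exact ((Submodule.mkQ_surjective _).prodMap (Submodule.mkQ_surjective _)).comp e.surjective
  -- exact sequence
  let f₁ : (Y ⧸ T) →ₗ[R] X ⧸ sm a X := T.mapQ (sm a X) θ le_rfl
  let f₂ : (X ⧸ sm a X) →ₗ[R] X ⧸ W := Submodule.factor le_sup_right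
  have h2 : Module.length R (X ⧸ sm a X) = Module.length R (Y ⧸ T) + Module.length R (X ⧸ W) := by
    refine Module.length_eq_add_of_exact f₁ f₂ ?_ (Submodule.factor_surjective _) ?_
    · rw [← LinearMap.ker_eq_bot, Submodule.ker_mapQ, ← hT, Submodule.mkQ_map_self]
    · rw [LinearMap.exact_iff]
      rw [Submodule.range_mapQ]
      apply le_antisymm
      · intro z hz
        obtain ⟨x, rfl⟩ := Submodule.mkQ_surjective _ z
        have hx : x ∈ W := (Submodule.Quotient.mk_eq_zero _).1 hz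
        obtain ⟨u, hu, v, hv, rfl⟩ := Submodule.mem_sup.1 hx
        exact ⟨u, hu, (Submodule.Quotient.eq _).2 (by simpa using (sm a X).neg_mem hv)⟩
      · rintro _ ⟨u, hu, rfl⟩
        exact (Submodule.Quotient.mk_eq_zero W).2 (Submodule.mem_sup_left hu)
  -- the semilinear map to `M / a M`
  let g : X →ₛₗ[σ] M ⧸ sm a M := (sm a M).mkQ.comp Φ
  have hgW : LinearMap.ker g ≤ W := by
    intro x hx
    obtain ⟨m, hm⟩ := (Submodule.Quotient.mk_eq_zero (sm a M)).1 hx
    obtain ⟨x', rfl⟩ := hΦ m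
    have : Φ (x - a • x') = 0 := by
      rw [map_sub, LinearMap.map_smulₛₗ, ha, ← hm, LinearMap.lsmul_apply, sub_self]
    have := W.add_mem (Submodule.mem_sup_left (hker this)) (Submodule.mem_sup_right (⟨x', rfl⟩ : a • x' ∈ sm a X))
    simpa using this
  have h3 : Module.length R (X ⧸ W) ≤ Module.length R (M ⧸ sm a M) := by
    rw [← length_quotient_ker g ((Submodule.mkQ_surjective _).comp hΦ)]
    exact Module.length_le_of_surjective (Submodule.factor hgW) (Submodule.factor_surjective _)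
  have hfin : Module.length R (M ⧸ sm a M) ≠ ⊤ := Module.length_ne_top
  have h4 : Module.length R (Y ⧸ sm a Y) ≤ Module.length R (Y ⧸ T) := by
    have h5 := (h1.symm.trans h2).le.trans (add_le_add_right h3 _)
    rw [add_comm (Module.length R (Y ⧸ T))] at h5
    exact (ENat.add_le_add_iff_left hfin).1 h5
  by_contra hne
  have hbot : T.map (sm a Y).mkQ ≠ ⊥ := fun h => hne (by
    have : (sm a Y).mkQ y ∈ T.map (sm a Y).mkQ := ⟨y, hy, rfl⟩
    rw [h, Submodule.mem_bot, Submodule.mkQ_apply, Submodule.Quotient.mk_eq_zero] at this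
    exact this)
  have h6 := Submodule.length_quotient_lt (T.map (sm a Y).mkQ) hbot
  rw [(Submodule.quotientQuotientEquivQuotient (sm a Y) T hYT).length_eq] at h6
  exact absurd h4 (not_le.2 h6)

theorem exists_pow_smul_eq_zero [IsLocalRing R] {a : R} (ha : a ∈ IsLocalRing.maximalIdeal R)
    (M : Type v) [AddCommGroup M] [Module R M] (hM : IsFiniteLength R M) :
    ∃ m : ℕ, ∀ x : M, a ^ m • x = 0 := by
  obtain ⟨hn, hart⟩ := isFiniteLength_iff_isNoetherian_isArtinian.1 hM
  obtain ⟨m, hm⟩ := IsArtinian.monotone_stabilizes (R := R) (M := M)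
    ⟨fun j => OrderDual.toDual (sm (a ^ j) M), fun i j hij => by
      rintro _ ⟨y, rfl⟩
      exact ⟨a ^ (j - i) • y, by simp only [LinearMap.lsmul_apply, smul_smul, ← pow_add]; rw [Nat.add_sub_cancel' hij]⟩⟩
  refine ⟨m, fun x => ?_⟩
  have hbot : sm (a ^ m) M = ⊥ := by
    refine Submodule.eq_bot_of_le_smul_of_le_jacobson_bot (Ideal.span {a}) _
      (IsNoetherian.noetherian _) ?_ ?_
    · intro z hz
      have h := hm (m + 1) (Nat.le_succ m)
      have hz' : z ∈ sm (a ^ (m + 1)) M := by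
        rw [← show sm (a ^ m) M = sm (a ^ (m + 1)) M from congrArg OrderDual.ofDual h]; exact hz
      obtain ⟨y, rfl⟩ := hz'
      simp only [LinearMap.lsmul_apply, pow_succ', mul_smul]
      exact Submodule.smul_mem_smul (Ideal.mem_span_singleton_self a) ⟨y, rfl⟩
    · rw [IsLocalRing.jacobson_eq_maximalIdeal ⊥ bot_ne_top]
      exact (Ideal.span_singleton_le_iff_mem _).2 ha
  exact (Submodule.eq_bot_iff _).1 hbot _ ⟨x, rfl⟩

theorem exists_isCompl_of_pure [IsDomain R] [IsPrincipalIdealRing R] {p : R} (hp : Irreducible p)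
    {M : Type v} [AddCommGroup M] [Module R M] [Module.Finite R M]
    (htor : ∃ m : ℕ, ∀ x : M, p ^ m • x = 0) (A : Submodule R M)
    (hpure : ∀ (e : ℕ) (x : M), p ^ e • x ∈ A → ∃ y ∈ A, p ^ e • y = p ^ e • x) :
    ∃ Q : Submodule R M, IsCompl A Q := by
  classical
  obtain ⟨m, hm⟩ := htor
  have hT : Module.IsTorsion' (M ⧸ A) (Submonoid.powers p) := fun {x} => by
    obtain ⟨x, rfl⟩ := A.mkQ_surjective x
    refine ⟨⟨p ^ m, m, rfl⟩, ?_⟩
    show p ^ m • A.mkQ x = 0
    rw [← map_smul, hm, map_zero]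
  obtain ⟨d, k, ⟨e⟩⟩ := Module.torsion_by_prime_power_decomposition hp hT
  have hlift : ∀ i : Fin d, ∃ x : M, A.mkQ x =
      e.symm (DirectSum.lof R (Fin d) (fun i => R ⧸ R ∙ p ^ (k i)) i (Submodule.Quotient.mk 1)) ∧
        p ^ (k i) • x = 0 := by
    intro i
    obtain ⟨x, hx⟩ := A.mkQ_surjective
      (e.symm (DirectSum.lof R (Fin d) (fun i => R ⧸ R ∙ p ^ (k i)) i (Submodule.Quotient.mk 1)))
    have hmem : p ^ (k i) • x ∈ A := by
      rw [← Submodule.Quotient.mk_eq_zero, ← Submodule.mkQ_apply, map_smul, hx, ← map_smul, ← map_smul,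
        ← Submodule.Quotient.mk_smul, smul_eq_mul, mul_one,
        (Submodule.Quotient.mk_eq_zero _).2 (Submodule.mem_span_singleton_self _), map_zero, map_zero]
    obtain ⟨y, hy, hy'⟩ := hpure _ x hmem
    refine ⟨x - y, ?_, by rw [smul_sub, hy', sub_self]⟩
    rw [map_sub, hx, show A.mkQ y = 0 from (Submodule.Quotient.mk_eq_zero _).2 hy, sub_zero]
  choose x hx hx0 using hlift
  let s : (M ⧸ A) →ₗ[R] M :=
    (DirectSum.toModule R (Fin d) M fun i => Submodule.liftQ (R ∙ p ^ (k i)) (LinearMap.toSpanSingleton R M (x i))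
      ((Submodule.span_singleton_le_iff_mem _ _).2 (by simpa using hx0 i))) ∘ₗ e.toLinearMap
  have hs : A.mkQ ∘ₗ s ∘ₗ e.symm.toLinearMap = e.symm.toLinearMap := by
    refine DirectSum.linearMap_ext R fun i => ?_
    refine Submodule.linearMap_qext _ (LinearMap.ext_ring ?_)
    simp only [s, LinearMap.comp_apply, Submodule.mkQ_apply, LinearEquiv.coe_coe, e.apply_symm_apply,
      DirectSum.toModule_lof]
    rw [show Submodule.liftQ (R ∙ p ^ (k i)) (LinearMap.toSpanSingleton R M (x i)) _ (Submodule.Quotient.mk 1) =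
      LinearMap.toSpanSingleton R M (x i) 1 from Submodule.liftQ_apply _ _ _, LinearMap.toSpanSingleton_apply,
      one_smul]
    exact hx i
  have hs' : ∀ z, A.mkQ (s z) = z := fun z => by
    simpa using DFunLike.congr_fun hs (e z)
  refine ⟨LinearMap.range s, ⟨Submodule.disjoint_def.2 ?_, codisjoint_iff.2 (eq_top_iff.2 fun z _ => ?_)⟩⟩
  · rintro _ hz ⟨q, rfl⟩
    have : A.mkQ (s q) = 0 := (Submodule.Quotient.mk_eq_zero _).2 hz
    rw [hs'] at this
    rw [this, map_zero]
  · refine Submodule.mem_sup.2 ⟨z - s (A.mkQ z), ?_, s (A.mkQ z), ⟨_, rfl⟩, sub_add_cancel _ _⟩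
    rw [← Submodule.Quotient.mk_eq_zero, Submodule.Quotient.mk_sub, ← Submodule.mkQ_apply, ← Submodule.mkQ_apply,
      hs', sub_self]

end FL52
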